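import Groth.Agent.Pic13Lib.BoundedInv
import Groth.Agent.Pic13Lib.Bdd.Gen
import Groth.Agent.PicLfp.Main
import Groth.Agent.SeesawX.PicSep
import Groth.Agent.PicClLib.Basic
import Groth.Agent.Lib.CurveDeg

/-!
# Bounded families and quasi-compact opens of the Picard scheme
-/

set_option autoImplicit false
set_option linter.style.haveILetI false
set_option backward.isDefEq.respectTransparency false
set_option backward.isDefEq.respectTransparency.types false
set_option maxHeartbeats 1000000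

universe u

open CategoryTheory CategoryTheory.Limits AlgebraicGeometry TopologicalSpace
open scoped Groth.Agent.H23.PicMul

namespace Groth.Agent.PicBdd

open Groth.Agent

variable {k : Type u} [Field k] [IsAlgClosed k] {X : Scheme.{u}} [X.Over (Spec (CommRingCat.of k))]


omit [IsAlgClosed k] in
theorem fibre_class {T : Scheme.{u}} (q : T ⟶ Spec (CommRingCat.of k)) (t : Spec (CommRingCat.of k) ⟶ T)
    (ht : t ≫ q = 𝟙 _) (M : (Pic13.prodK k X q).Modules) :
    PicF.pullCl (pullback.fst (X ↘ Spec (CommRingCat.of k)) (𝟙 (Spec (CommRingCat.of k)))) (PicF.cl (Pic13.fibreMod k X q t ht M)) =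
      PicF.pullCl (PicF.XTmap (X ↘ Spec (CommRingCat.of k)) (Over.homMk t ht : (Over.mk (𝟙 (Spec (CommRingCat.of k)))) ⟶ Over.mk q)) (PicF.cl M) := by
  show PicF.pullCl (pullback.fst (X ↘ Spec (CommRingCat.of k)) (𝟙 (Spec (CommRingCat.of k)))) (PicF.pullCl (Pic13.sliceAt k X q t ht) (PicF.cl M)) = _
  rw [PicClLib.pullCl_comp]
  congr 1
  refine pullback.hom_ext ?_ ?_
  · refine ((Category.assoc _ _ _).trans (congrArg (pullback.fst _ _ ≫ ·) (pullback.lift_fst _ _ _))).trans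
      ((Category.comp_id _).trans (SeesawX.PicSep.XTmap_fst (X ↘ Spec (CommRingCat.of k)) (Over.homMk t ht : (Over.mk (𝟙 (Spec (CommRingCat.of k)))) ⟶ Over.mk q)).symm)
  · show ((pullback.fst (X ↘ Spec (CommRingCat.of k)) (𝟙 (Spec (CommRingCat.of k)))) ≫ Pic13.sliceAt k X q t ht) ≫ pullback.snd _ _ = _
    rw [Category.assoc, show Pic13.sliceAt k X q t ht ≫ pullback.snd (X ↘ Spec (CommRingCat.of k)) q = (X ↘ Spec (CommRingCat.of k)) ≫ t from pullback.lift_snd _ _ _,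
      ← Category.assoc, pullback.condition, Category.comp_id]
    exact (SeesawX.PicSep.XTmap_snd (X ↘ Spec (CommRingCat.of k)) (Over.homMk t ht : (Over.mk (𝟙 (Spec (CommRingCat.of k)))) ⟶ Over.mk q)).symm

/-- Classes with the same rational point of the Picard scheme are equal. -/
theorem point_inj {P : Over (Spec (CommRingCat.of k))}
    {φ : ∀ T : Over (Spec (CommRingCat.of k)), PicF.Cl (PicF.XT (X ↘ Spec (CommRingCat.of k)) T) → (T ⟶ P)} (hP : PicRel.IsRelPic (X ↘ Spec (CommRingCat.of k)) P φ)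
    {a b : PicF.Cl X} (ha : PicF.IsInvertibleCl (PicF.pullCl (pullback.fst (X ↘ Spec (CommRingCat.of k)) (𝟙 (Spec (CommRingCat.of k)))) a)) (hb : PicF.IsInvertibleCl (PicF.pullCl (pullback.fst (X ↘ Spec (CommRingCat.of k)) (𝟙 (Spec (CommRingCat.of k)))) b))
    (h : φ (Over.mk (𝟙 (Spec (CommRingCat.of k)))) (PicF.pullCl (pullback.fst (X ↘ Spec (CommRingCat.of k)) (𝟙 (Spec (CommRingCat.of k)))) a) = φ (Over.mk (𝟙 (Spec (CommRingCat.of k)))) (PicF.pullCl (pullback.fst (X ↘ Spec (CommRingCat.of k)) (𝟙 (Spec (CommRingCat.of k)))) b)) : a = b := by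
  obtain ⟨ι, U, hU, hpull⟩ := hP.locallyInjective (Over.mk (𝟙 (Spec (CommRingCat.of k)))) _ _ ha hb h
  obtain ⟨i, y, -⟩ := hU (IsLocalRing.closedPoint k)
  let q : (U i).left ⟶ Spec (CommRingCat.of k) := (U i).hom
  haveI : Etale q := (U i).prop
  haveI : Nonempty (U i).left := ⟨y⟩
  haveI := LocallyOfFiniteType.jacobsonSpace q
  obtain ⟨z, -, hz⟩ := nonempty_inter_closedPoints (X := (U i).left) (Z := Set.univ) Set.univ_nonempty
    isOpen_univ.isLocallyClosed
  obtain ⟨σ, hσ⟩ := (pointEquivClosedPoint q).symm ⟨z, hz⟩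
  let s : (Over.mk (𝟙 (Spec (CommRingCat.of k)))) ⟶ PicRel.ovr (Over.mk (𝟙 (Spec (CommRingCat.of k)))) (U i) := Over.homMk σ (by
    show σ ≫ (U i).hom ≫ 𝟙 _ = 𝟙 _
    rw [Category.comp_id]; exact hσ)
  have hs : s ≫ PicRel.ovrHom (Over.mk (𝟙 (Spec (CommRingCat.of k)))) (U i) = 𝟙 _ := Over.OverMorphism.ext hσ
  have h1 := congrArg (PicF.pullCl (PicF.XTmap (X ↘ Spec (CommRingCat.of k)) s)) (hpull i)
  rw [PicClLib.pullCl_comp, PicClLib.pullCl_comp, PicClLib.pullCl_comp, PicClLib.pullCl_comp, ← SeesawX.PicSep.XTmap_comp, hs] at h1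
  let e : X ⟶ PicF.XT (X ↘ Spec (CommRingCat.of k)) (Over.mk (𝟙 (Spec (CommRingCat.of k)))) := pullback.lift (𝟙 X) (X ↘ Spec (CommRingCat.of k)) (by simp)
  have he : e ≫ PicF.XTmap (X ↘ Spec (CommRingCat.of k)) (𝟙 (Over.mk (𝟙 (Spec (CommRingCat.of k))))) ≫ (pullback.fst (X ↘ Spec (CommRingCat.of k)) (𝟙 (Spec (CommRingCat.of k)))) = 𝟙 X := by
    refine (congrArg (e ≫ ·) (SeesawX.PicSep.XTmap_fst (X ↘ Spec (CommRingCat.of k)) (𝟙 (Over.mk (𝟙 (Spec (CommRingCat.of k))))))).trans (pullback.lift_fst _ _ _)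
  have h2 := congrArg (PicF.pullCl e) h1
  rw [PicClLib.pullCl_comp, PicClLib.pullCl_comp, he,
    PicClLib.pullCl_id, PicClLib.pullCl_id] at h2
  exact h2

variable [IsProper (X ↘ Spec (CommRingCat.of k))] {P : Over (Spec (CommRingCat.of k))}
  {φ : ∀ T : Over (Spec (CommRingCat.of k)), PicF.Cl (PicF.XT (X ↘ Spec (CommRingCat.of k)) T) → (T ⟶ P)}

/-- A bounded family lands in a quasi-compact open. -/
theorem exists_open_of_isBounded (hP : PicRel.IsRelPic (X ↘ Spec (CommRingCat.of k)) P φ) {Q : X.Modules → Prop}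
    (hQ : ∀ L, Q L → PicF.IsInvertible L) (hb : Pic13.IsBounded k X Q) :
    ∃ U : P.left.Opens, IsCompact (U : Set ↥P.left) ∧
      ∀ L, Q L → Set.range (φ (Over.mk (𝟙 (Spec (CommRingCat.of k)))) (PicF.pullCl (pullback.fst (X ↘ Spec (CommRingCat.of k)) (𝟙 (Spec (CommRingCat.of k)))) (PicF.cl L))).left.base ⊆ (U : Set ↥P.left) := by
  obtain ⟨κ, hκ, T, q, M, hT, hmem⟩ := Pic13Lib.exists_connected_families hb hQ
  let m := fun c => φ (Over.mk (q c)) (PicF.cl (M c))
  let K : Set P.left := ⋃ c, Set.range (m c).left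
  have hK : IsCompact K := isCompact_iUnion fun c => by
    haveI := (hT c).2.2.1
    haveI : CompactSpace ↥(Over.mk (q c)).left := QuasiCompact.compactSpace_of_compactSpace (q c)
    exact isCompact_range (m c).left.continuous
  obtain ⟨t, ht⟩ := hK.elim_finite_subcover (fun U : P.left.affineOpens => (U.1 : Set P.left)) (fun U => U.1.2)
    (fun x _ => by
      obtain ⟨U, hU, hx, -⟩ := exists_isAffineOpen_mem_and_subset (x := x) (U := ⊤) trivial
      exact Set.mem_iUnion.2 ⟨⟨U, hU⟩, hx⟩)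
  refine ⟨⟨⋃ U ∈ t, (U.1 : Set P.left), isOpen_biUnion fun U _ => U.1.2⟩,
    t.isCompact_biUnion fun U _ => U.2.isCompact, fun L hL => ?_⟩
  obtain ⟨c, s, hs, ⟨e⟩⟩ := hmem L hL
  rintro _ ⟨z, rfl⟩
  refine ht (Set.mem_iUnion.2 ⟨c, s z, ?_⟩)
  have h : φ (Over.mk (𝟙 (Spec (CommRingCat.of k)))) (PicF.pullCl (pullback.fst (X ↘ Spec (CommRingCat.of k)) (𝟙 (Spec (CommRingCat.of k)))) (PicF.cl L)) = (Over.homMk s hs : (Over.mk (𝟙 (Spec (CommRingCat.of k)))) ⟶ Over.mk (q c)) ≫ m c := by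
    rw [← H23.PicMul.cl_eq_iff.2 ⟨e⟩, fibre_class, hP.natural _ _ _ _ ⟨_, rfl, (hT c).2.2.2⟩]
  rw [h]
  rfl

/-- Classes with points in a quasi-compact open form a bounded family. -/
theorem isBounded_of_open (hP : PicRel.IsRelPic (X ↘ Spec (CommRingCat.of k)) P φ) {Q : X.Modules → Prop}
    (hQ : ∀ L, Q L → PicF.IsInvertible L) (U : P.left.Opens) (hU : IsCompact (U : Set ↥P.left))
    (hsub : ∀ L, Q L → Set.range (φ (Over.mk (𝟙 (Spec (CommRingCat.of k)))) (PicF.pullCl (pullback.fst (X ↘ Spec (CommRingCat.of k)) (𝟙 (Spec (CommRingCat.of k)))) (PicF.cl L))).left.base ⊆ (U : Set ↥P.left)) :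
    Pic13.IsBounded k X Q := by
  haveI := PicLfp.locallyOfFinitePresentation hP
  let T₀ : Over (Spec (CommRingCat.of k)) := Over.mk (U.ι ≫ P.hom)
  let g : T₀ ⟶ P := Over.homMk U.ι rfl
  obtain ⟨ι, V, hV, hc⟩ := hP.locallySurjective T₀ g
  haveI : CompactSpace U.toScheme := isCompact_iff_compactSpace.1 hU
  haveI : CompactSpace T₀.left := ‹CompactSpace U.toScheme›
  haveI : CompactSpace ↥U := ‹CompactSpace U.toScheme›
  have hch : ∀ u : U.toScheme, ∃ (i : ι) (W : (V i).left.Opens), IsAffineOpen W ∧ u ∈ (V i).hom '' (W : Set (V i).left) := fun u => by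
    obtain ⟨i, a, ha⟩ := hV u
    obtain ⟨W, hW, haW, -⟩ := exists_isAffineOpen_mem_and_subset (x := a) (U := ⊤) trivial
    exact ⟨i, W, hW, a, haW, ha⟩
  choose i W hW hu using hch
  obtain ⟨t, ht⟩ := isCompact_univ.elim_finite_subcover (fun u => (V (i u)).hom '' (W u : Set (V (i u)).left))
    (fun u => by
      haveI : Etale (V (i u)).hom := (V (i u)).prop
      exact (V (i u)).hom.isOpenMap _ (W u).2)
    (fun u _ => Set.mem_iUnion.2 ⟨u, hu u⟩)
  let Q' : T₀.left → X.Modules → Prop := fun u L => Q L ∧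
    ∀ z, ∃ a ∈ W u, U.ι ((V (i u)).hom a) = (φ (Over.mk (𝟙 (Spec (CommRingCat.of k)))) (PicF.pullCl (pullback.fst (X ↘ Spec (CommRingCat.of k)) (𝟙 (Spec (CommRingCat.of k)))) (PicF.cl L))).left z
  have hone : ∀ u, Pic13.IsBounded k X (Q' u) := fun u => by
    haveI : Etale (V (i u)).hom := (V (i u)).prop
    let T₁ : Over (Spec (CommRingCat.of k)) := PicRel.ovr T₀ (V (i u))
    let q : (W u).toScheme ⟶ Spec (CommRingCat.of k) := (W u).ι ≫ (V (i u)).hom ≫ U.ι ≫ P.hom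
    haveI : LocallyOfFiniteType q := inferInstance
    haveI : CompactSpace (W u).toScheme := isCompact_iff_compactSpace.1 (hW u).isCompact
    haveI : QuasiCompact q := (quasiCompact_iff_compactSpace q).2 inferInstance
    let j : Over.mk q ⟶ T₁ := Over.homMk (W u).ι rfl
    obtain ⟨c, hci, hcφ⟩ := hc (i u)
    obtain ⟨M₁, rfl, hM₁⟩ := hci
    let M := (Scheme.Modules.pullback (PicF.XTmap (X ↘ Spec (CommRingCat.of k)) j)).obj M₁
    have hM : PicF.IsInvertible M := PicClLib.isInvertible_pullback _ hM₁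
    haveI := Pic13Lib.Bdd.isLocallyNoetherian_prodK (k := k) (X := X) q
    refine ⟨_, q, inferInstance, inferInstance, M, CurveDeg.isCoh_of_isInvertible hM, fun L ⟨hL, hz⟩ => ?_⟩
    let p := φ (Over.mk (𝟙 (Spec (CommRingCat.of k)))) (PicF.pullCl (pullback.fst (X ↘ Spec (CommRingCat.of k)) (𝟙 (Spec (CommRingCat.of k)))) (PicF.cl L))
    obtain ⟨a, haW, ha⟩ := hz (IsLocalRing.closedPoint k)
    let τ : (W u).toScheme ⟶ P.left := (W u).ι ≫ (V (i u)).hom ≫ U.ι
    have hp : p.left ≫ P.hom = 𝟙 _ := Over.w p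
    have hcl : IsClosed ({p.left (IsLocalRing.closedPoint k)} : Set P.left) :=
      ((pointEquivClosedPoint P.hom) ⟨p.left, hp⟩).2
    haveI := LocallyOfFiniteType.jacobsonSpace q
    obtain ⟨w, hw, hwc⟩ := nonempty_inter_closedPoints (X := (W u).toScheme)
      (Z := τ ⁻¹' {p.left (IsLocalRing.closedPoint k)}) ⟨⟨a, haW⟩, ha⟩
      (hcl.preimage τ.continuous).isLocallyClosed
    obtain ⟨σ, hσ, hσw⟩ : ∃ σ : Spec (CommRingCat.of k) ⟶ (W u).toScheme, σ ≫ q = 𝟙 _ ∧
        σ (IsLocalRing.closedPoint k) = w :=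
      ⟨((pointEquivClosedPoint q).symm ⟨w, hwc⟩).1, ((pointEquivClosedPoint q).symm ⟨w, hwc⟩).2,
        congrArg Subtype.val ((pointEquivClosedPoint q).apply_symm_apply ⟨w, hwc⟩)⟩
    have hpσ : p.left = σ ≫ τ := congrArg Subtype.val ((pointEquivClosedPoint P.hom).injective
      (a₁ := ⟨p.left, hp⟩) (a₂ := ⟨σ ≫ τ, by simpa [τ, q, Category.assoc] using hσ⟩) (Subtype.ext (by
        show p.left (IsLocalRing.closedPoint k) = τ (σ (IsLocalRing.closedPoint k))
        rw [hσw]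
        exact hw.symm)))
    refine ⟨σ, hσ, H23.PicMul.cl_eq_iff.1 (point_inj hP ?_ ?_ ?_)⟩
    · exact ⟨_, rfl, PicClLib.isInvertible_pullback _ (PicClLib.isInvertible_pullback _ hM)⟩
    · exact ⟨_, rfl, PicClLib.isInvertible_pullback _ (hQ L hL)⟩
    · rw [fibre_class, hP.natural _ _ _ _ ⟨_, rfl, hM⟩,
        show PicF.cl M = PicF.pullCl (PicF.XTmap (X ↘ Spec (CommRingCat.of k)) j) (PicF.cl M₁) from rfl,
        hP.natural _ _ _ _ ⟨_, rfl, hM₁⟩, hcφ]
      refine Over.OverMorphism.ext ?_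
      show σ ≫ (W u).ι ≫ (V (i u)).hom ≫ U.ι = p.left
      rw [hpσ]
  have hfin : ∀ s : Finset T₀.left, Pic13.IsBounded k X fun L => ∃ u ∈ s, Q' u L := fun s => by
    classical
    induction s using Finset.induction with
    | empty => exact Pic13Lib.Bdd.isBounded_empty fun L ⟨u, hu, _⟩ => absurd hu (Finset.notMem_empty u)
    | insert u s _ ih =>
      refine Pic13Lib.isBounded_mono (fun L ⟨v, hv, h⟩ => ?_) (Pic13Lib.Bdd.isBounded_union (hone u) ih)
      rcases Finset.mem_insert.1 hv with rfl | hv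
      · exact Or.inl h
      · exact Or.inr ⟨v, hv, h⟩
  refine Pic13Lib.isBounded_mono (fun L hL => ?_) (hfin t)
  obtain ⟨u, hut, a, haW, ha⟩ := Set.mem_iUnion₂.1
    (ht (Set.mem_univ (⟨_, hsub L hL ⟨IsLocalRing.closedPoint k, rfl⟩⟩ : U.toScheme)))
  exact ⟨u, hut, hL, fun z => ⟨a, haW, by rw [ha, Subsingleton.elim (α := PrimeSpectrum k) z (IsLocalRing.closedPoint k)]; rfl⟩⟩

end Groth.Agent.PicBdd
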